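import Groth.Agent.Lib.Smoothing.Approx.Basic
import Groth.Agent.Lib.FPCrit.AllAlgebras
import Mathlib.Algebra.Category.CommAlgCat.Basic
import Mathlib.Algebra.Category.Ring.Under.Basic

/-! Functors preserving filtered colimits along the completion of a regular Henselian pair. -/

set_option autoImplicit false

universe u

open CategoryTheory Limits

namespace GrothLib.HenselFunctor

attribute [-instance] CategoryTheory.Sigma.sigma

variable (A : Type u) [CommRing A] (B : Type u) [CommRing B] [Algebra A B]

/-- The finitely presented algebras over `B`, as objects of `CommAlgCat`. -/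
noncomputable def diag : GrothLib.FPCrit.FPIndex A B ⥤ CommAlgCat.{u} A :=
  GrothLib.FPCrit.fpUnder A B ⋙ (commAlgCatEquivUnder (CommRingCat.of A)).inverse

/-- The identification of the algebra with the apex. -/
def apexIso : (commAlgCatEquivUnder (CommRingCat.of A)).inverse.obj
    (Under.mk (CommRingCat.ofHom (algebraMap A B))) ≅ CommAlgCat.of A B :=
  CommAlgCat.isoMk (show ((commAlgCatEquivUnder (CommRingCat.of A)).inverse.obj
      (Under.mk (CommRingCat.ofHom (algebraMap A B))) : CommAlgCat.{u} A) ≃ₐ[A] B from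
    { toRingEquiv := .refl B, commutes' := fun _ => rfl })

/-- Their cocone with apex `B`. -/
noncomputable def cocone : Cocone (diag A B) where
  pt := CommAlgCat.of A B
  ι := { app := fun S => (commAlgCatEquivUnder (CommRingCat.of A)).inverse.map
          ((GrothLib.FPCrit.fpCocone A B).ι.app S) ≫ (apexIso A B).hom
         naturality := fun S T h => by
          simp only [diag, Functor.comp_map, Functor.const_obj_map, Category.comp_id]
          rw [← Category.assoc, ← Functor.map_comp, (GrothLib.FPCrit.fpCocone A B).w h]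
          exact (Category.comp_id _).symm }

/-- It is a colimit cocone. -/
noncomputable def isColimit : IsColimit (cocone A B) :=
  IsColimit.ofIsoColimit (isColimitOfPreserves (commAlgCatEquivUnder (CommRingCat.of A)).inverse
    (GrothLib.FPCrit.isColimitFpCocone A B)) (Cocone.ext (apexIso A B) fun S => rfl)

theorem finitePresentation_diag (S : GrothLib.FPCrit.FPIndex A B) :
    Algebra.FinitePresentation A ((diag A B).obj S) := by
  haveI : Algebra.FinitePresentation A (MvPolynomial ↥S.1 A ⧸ S.2.1) :=
    Algebra.FinitePresentation.quotient S.2.2.1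
  exact Algebra.FinitePresentation.equiv (A := MvPolynomial ↥S.1 A ⧸ S.2.1)
    { toRingEquiv := .refl _, commutes' := fun _ => rfl }

variable {A} (I : Ideal A) [IsNoetherianRing A] [HenselianRing A I]

theorem hom_ext_base {X : CommAlgCat.{u} A} (f g : CommAlgCat.of A A ⟶ X) : f = g :=
  CommAlgCat.hom_ext (Algebra.ext_id _ f.hom g.hom)

section General

variable {J : Type u} [SmallCategory J] [IsFiltered J] [Nonempty J] (D : J ⥤ CommAlgCat.{u} A)
  (π : ∀ j, D.obj j ⟶ CommAlgCat.of A (AdicCompletion I A))
  (hπ : ∀ {i j : J} (f : i ⟶ j), D.map f ≫ π j = π i)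
  (hc : IsColimit (Cocone.mk (CommAlgCat.of A (AdicCompletion I A))
    { app := π, naturality := fun i j f => (hπ f).trans (Category.comp_id _).symm }))
  (hfp : ∀ j, Algebra.FinitePresentation A (D.obj j))
  (hreg : CAlg.IsRegularHom A (AdicCompletion I A))
  (F : CommAlgCat.{u} A ⥤ Type u) [PreservesFilteredColimitsOfSize.{u, u} F]

include hc hfp hreg in
theorem injective_map_of_colimit :
    Function.Injective (F.map (CommAlgCat.ofHom (Algebra.ofId A (AdicCompletion I A)))) := by
  intro x y h
  let S₀ : J := Classical.arbitrary J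
  let j : CommAlgCat.of A A ⟶ D.obj S₀ := CommAlgCat.ofHom (Algebra.ofId A (D.obj S₀))
  have hj : CommAlgCat.ofHom (Algebra.ofId A (AdicCompletion I A)) = j ≫ π S₀ := hom_ext_base _ _
  rw [hj, Functor.map_comp_apply, Functor.map_comp_apply] at h
  obtain ⟨T, f, g, hfg⟩ :=
    (Types.FilteredColimit.isColimit_eq_iff _ (isColimitOfPreserves F hc) (i := S₀) (j := S₀)).1 h
  haveI := hfp T
  obtain ⟨ψ, -⟩ := Smoothing.Approx.exists_algHom_approx I hreg (D.obj T) (π T).hom 0
  have key : ∀ k : S₀ ⟶ T, j ≫ D.map k ≫ CommAlgCat.ofHom ψ = 𝟙 _ := fun k => hom_ext_base _ _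
  have := congrArg (F.map (CommAlgCat.ofHom ψ)) hfg
  change F.map (CommAlgCat.ofHom ψ) (F.map (D.map f) (F.map j x)) =
    F.map (CommAlgCat.ofHom ψ) (F.map (D.map g) (F.map j y)) at this
  rw [← Functor.map_comp_apply, ← Functor.map_comp_apply, ← Functor.map_comp_apply,
    ← Functor.map_comp_apply] at this
  rwa [key f, key g, Functor.map_id_apply, Functor.map_id_apply] at this

include hc hfp hreg in
theorem lifts_iff_of_colimit (xbar : F.obj (CommAlgCat.of A (A ⧸ I))) :
    (∃ x : F.obj (CommAlgCat.of A A), F.map (CommAlgCat.ofHom (Ideal.Quotient.mkₐ A I)) x = xbar) ↔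
      ∃ y : F.obj (CommAlgCat.of A (AdicCompletion I A)),
        F.map (CommAlgCat.ofHom (AdicCompletion.evalOneₐ I)) y = xbar := by
  constructor
  · rintro ⟨x, rfl⟩
    refine ⟨F.map (CommAlgCat.ofHom (Algebra.ofId A _)) x, ?_⟩
    rw [← Functor.map_comp_apply]
    exact congrArg (fun k => F.map k x) (hom_ext_base _ _)
  · rintro ⟨y, rfl⟩
    obtain ⟨T, z, rfl⟩ := Types.jointly_surjective _ (isColimitOfPreserves F hc) y
    haveI := hfp T
    obtain ⟨ψ, hψ⟩ := Smoothing.Approx.exists_algHom_approx I hreg (D.obj T) (π T).hom 1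
    refine ⟨F.map (CommAlgCat.ofHom ψ) z, ?_⟩
    change _ = F.map _ (F.map (π T) z)
    rw [← Functor.map_comp_apply, ← Functor.map_comp_apply]
    refine congrArg (fun k => F.map k z) (CommAlgCat.hom_ext (AlgHom.ext fun c => ?_))
    change Ideal.Quotient.mk I (ψ c) = AdicCompletion.evalOneₐ I ((π T).hom c)
    rw [← AdicCompletion.factorₐ_evalₐ_one]
    exact congrArg (Ideal.Quotient.factor (show I ^ 1 ≤ I by simp)) (AlgHom.congr_fun hψ c)

end General

theorem injective_map (hreg : CAlg.IsRegularHom A (AdicCompletion I A))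
    (F : CommAlgCat.{u} A ⥤ Type u) [PreservesFilteredColimitsOfSize.{u, u} F] :
    Function.Injective (F.map (CommAlgCat.ofHom (Algebra.ofId A (AdicCompletion I A)))) :=
  injective_map_of_colimit I (diag A _) (cocone A _).ι.app (fun f => (cocone A _).w f)
    (isColimit A _) (finitePresentation_diag A _) hreg F

theorem lifts_iff (hreg : CAlg.IsRegularHom A (AdicCompletion I A))
    (F : CommAlgCat.{u} A ⥤ Type u) [PreservesFilteredColimitsOfSize.{u, u} F]
    (xbar : F.obj (CommAlgCat.of A (A ⧸ I))) :
    (∃ x : F.obj (CommAlgCat.of A A), F.map (CommAlgCat.ofHom (Ideal.Quotient.mkₐ A I)) x = xbar) ↔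
      ∃ y : F.obj (CommAlgCat.of A (AdicCompletion I A)),
        F.map (CommAlgCat.ofHom (AdicCompletion.evalOneₐ I)) y = xbar :=
  lifts_iff_of_colimit I (diag A _) (cocone A _).ι.app (fun f => (cocone A _).w f)
    (isColimit A _) (finitePresentation_diag A _) hreg F xbar

end GrothLib.HenselFunctor
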